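import Cfsg.Agent.Lib.Grp.FpfCyc
import Cfsg.Agent.Lib.Grp.SylowIn
import Cfsg.Agent.Lib.FT.Api2

/-!
# Linear groups all of whose point stabilizers are Sylow `p`-subgroups
-/

set_option autoImplicit false
set_option linter.unusedSectionVars false

namespace Her

open Cfsg GT FT Subgroup MulAction
open scoped Pointwise

/-- The class `𝓗`: a faithful action on an `𝔽_p`-space, stabilizers of non-zero vectors are Sylow. -/
structure Hc (p : ℕ) (L V : Type*) [Group L] [AddCommGroup V] [DistribMulAction L V] : Prop where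
  faith : ∀ g : L, (∀ v : V, g • v = v) → g = 1
  syl : ∀ v : V, v ≠ 0 → IsSylowIn p (stabilizer L v) ⊤
  exp : ∀ v : V, p • v = 0
  nt : Nontrivial V

/-- transitivity on non-zero vectors -/
def Tr (L V : Type*) [Group L] [AddCommGroup V] [DistribMulAction L V] : Prop :=
  ∀ v w : V, v ≠ 0 → w ≠ 0 → ∃ g : L, g • v = w

/-- `x` acts irreducibly -/
def Irr {L : Type*} (V : Type*) [Group L] [AddCommGroup V] [DistribMulAction L V] (x : L) : Prop :=
  ∀ W : AddSubgroup V, (∀ w ∈ W, x • w ∈ W) → W = ⊥ ∨ W = ⊤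

theorem card_dvd_of_free {K X : Type*} [Group K] [MulAction K X] (h : ∀ (g : K) (x : X), g • x = x → g = 1) :
    Nat.card K ∣ Nat.card X := by
  rw [Nat.card_congr (selfEquivOrbitsQuotientProd (G := K) (X := X) fun x =>
    eq_bot_iff.2 fun g hg => h g x hg), Nat.card_prod]
  exact dvd_mul_left _ _

variable {p : ℕ} [hp : Fact p.Prime] {H V : Type*} [Group H] [Finite H] [AddCommGroup V] [Finite V]
  [DistribMulAction H V]

theorem smul_ne_zero' (g : H) {v : V} (hv : v ≠ 0) : g • v ≠ 0 := fun e =>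
  hv (by rw [← inv_smul_smul g v, e, smul_zero])

/-- A `p`-group fixes a non-zero vector in every non-zero invariant subgroup. -/
theorem exists_fixed (hV : ∀ v : V, p • v = 0) {P : Subgroup H} (hP : IsPGroup p P) {W : AddSubgroup V}
    (hW : ∀ g ∈ P, ∀ w ∈ W, g • w ∈ W) (h0 : W ≠ ⊥) : ∃ w ∈ W, w ≠ 0 ∧ ∀ g ∈ P, g • w = w := by
  letI : MulAction P W :=
    { smul := fun g w => ⟨g.1 • w.1, hW g g.2 w w.2⟩
      one_smul := fun w => Subtype.ext (one_smul H w.1)
      mul_smul := fun g g' w => Subtype.ext (mul_smul g.1 g'.1 w.1) }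
  obtain ⟨w, hw⟩ := AddSubgroup.ne_bot_iff_exists_ne_zero.1 h0
  have h1 : addOrderOf w = p := addOrderOf_eq_prime (Subtype.ext (hV w)) hw
  obtain ⟨b, hb, h2⟩ := hP.exists_fixed_point_of_prime_dvd_card_of_fixed_point W
    (h1 ▸ addOrderOf_dvd_natCard w) (a := 0) fun g => Subtype.ext (smul_zero g.1)
  exact ⟨b, b.2, fun e => h2 (Subtype.ext e.symm), fun g hg => congrArg Subtype.val (hb ⟨g, hg⟩)⟩

namespace Hc
variable (h : Hc p H V)
include h

theorem inf (N : Subgroup H) [N.Normal] {v : V} (hv : v ≠ 0) : IsSylowIn p (stabilizer H v ⊓ N) N := by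
  simpa using (h.syl v hv).inf_of_le_normalizer le_top le_normalizer_of_normal

theorem sub (N : Subgroup H) [N.Normal] : Hc p N V :=
  ⟨fun g hg => Subtype.ext (h.faith g hg), fun v hv => by
    have h1 := (isSylowIn_subgroupOf_top_iff inf_le_right).2 (h.inf N hv)
    rwa [inf_subgroupOf_right] at h1, h.exp, h.nt⟩

theorem isPElt {g : H} {v : V} (hv : v ≠ 0) (e : g • v = v) : IsPElt p g :=
  isPElt_of_mem (h.syl v hv).isPGroup e

theorem fpf {g : H} (hg : ¬ p ∣ orderOf g) {v : V} (hv : v ≠ 0) (e : g • v = v) : g = 1 :=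
  (h.isPElt hv e).eq_one_of_isPRegular hg

theorem exists_ne : ∃ v : V, v ≠ 0 := have := h.nt; _root_.exists_ne 0

theorem exists_fix {P : Subgroup H} (hP : IsPGroup p P) : ∃ w : V, w ≠ 0 ∧ P ≤ stabilizer H w := by
  have := h.nt
  obtain ⟨w, -, h1, h2⟩ := exists_fixed h.exp hP (W := ⊤) (fun _ _ _ _ => trivial) top_ne_bot
  exact ⟨w, h1, h2⟩

theorem eq_bot {N : Subgroup H} [N.Normal] (hN : IsPGroup p N) : N = ⊥ :=
  eq_bot_iff.2 fun g hg => h.faith g fun v => by
    by_cases hv : v = 0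
    · rw [hv, smul_zero]
    · exact (h.syl v hv).le_of_normalizes hN le_top le_normalizer_of_normal hg

theorem pCore_eq_bot : pCore p H = ⊥ := h.eq_bot (isPGroup_pCore p H)

theorem card_V : ∃ n, 1 ≤ n ∧ Nat.card V = p ^ n := by
  have := h.nt
  obtain ⟨n, hn⟩ := IsPGroup.iff_card.1 (show IsPGroup p (Multiplicative V) from fun v =>
    ⟨1, by rw [pow_one]; exact h.exp v.toAdd⟩)
  refine ⟨n, Nat.pos_of_ne_zero ?_, hn⟩
  rintro rfl
  exact Finite.one_lt_card.ne' hn

/-- A `p'`-subgroup acts freely on the non-zero vectors of an invariant subgroup. -/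
theorem dvd {K : Subgroup H} (hK : ¬ p ∣ Nat.card K) {W : AddSubgroup V} (hW : ∀ g ∈ K, ∀ w ∈ W, g • w ∈ W) :
    Nat.card K ∣ Nat.card W - 1 := by
  classical
  letI : MulAction K {w : W // w ≠ 0} :=
    { smul := fun g w => ⟨⟨g.1 • w.1.1, hW g g.2 _ w.1.2⟩, fun e =>
        smul_ne_zero' g.1 (fun e' => w.2 (Subtype.ext e')) (congrArg Subtype.val e)⟩
      one_smul := fun w => Subtype.ext (Subtype.ext (one_smul H w.1.1))
      mul_smul := fun g g' w => Subtype.ext (Subtype.ext (mul_smul g.1 g'.1 w.1.1)) }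
  have h1 := card_dvd_of_free (K := K) (X := {w : W // w ≠ 0}) fun g w e => Subtype.ext
    (h.fpf (fun e => hK (e.trans (orderOf_dvd_natCard K g.2))) (fun e' => w.2 (Subtype.ext e'))
      (congrArg (·.1.1) e))
  have := Fintype.ofFinite W
  rwa [Nat.card_eq_fintype_card (α := {w : W // w ≠ 0}), Fintype.card_subtype_compl, Fintype.card_subtype_eq,
    ← Nat.card_eq_fintype_card] at h1

theorem cyclic {A : Subgroup H} (hA : A ≤ 𝐂(A)) (hp : ¬ p ∣ Nat.card A) : IsCyclic A := by
  have := h.nt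
  have : IsMulCommutative A := isMulCommutative_iff_forall.2 fun a ha b hb => hA hb a ha
  obtain ⟨n, -, hn⟩ := h.card_V
  refine isCyclic_of_fpf (V := Multiplicative V) ((MulAutMultiplicative V).symm.toMonoidHom.comp
    ((DistribMulAction.toAddAut H V).comp A.subtype)) ?_ fun s hs v hv => by_contra fun e => hs (Subtype.ext
      (h.fpf (fun e => hp (e.trans (orderOf_dvd_natCard A s.2))) (v := v.toAdd) e hv))
  rw [show Nat.card (Multiplicative V) = _ from hn]
  exact ((Nat.Prime.coprime_iff_not_dvd Fact.out).2 hp).pow_left n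

theorem cyclic_of_isPGroup {r : ℕ} [hr : Fact r.Prime] (h2 : r ≠ 2) (hrp : r ≠ p) {R : Subgroup H}
    (hR : IsPGroup r R) : IsCyclic R :=
  isCyclic_of_forall_isMulCommutative h2 hR fun A hA => by
    have h1 := h.cyclic (A := A.map R.subtype) (by
      rintro _ ⟨a, ha, rfl⟩ _ ⟨b, hb, rfl⟩
      exact congrArg Subtype.val (isMulCommutative_iff_forall.1 hA b hb a ha)) fun e => by
      obtain ⟨k, hk⟩ := IsPGroup.iff_card.1 ((hR.to_subgroup A).map R.subtype)
      exact hrp ((Nat.prime_dvd_prime_iff_eq hp.out hr.out).1 (hp.out.dvd_of_dvd_pow (hk ▸ e))).symm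
    exact isCyclic_of_surjective _ (A.equivMapOfInjective _ R.subtype_injective).symm.surjective

theorem index_stab (tr : Tr H V) {v : V} (hv : v ≠ 0) : (stabilizer H v).index = Nat.card V - 1 := by
  classical
  have := Fintype.ofFinite V
  rw [index_stabilizer, show orbit H v = {0}ᶜ from Set.ext fun w => ⟨by
    rintro ⟨g, rfl⟩; exact smul_ne_zero' g hv, fun hw => tr v w hv hw⟩, Set.ncard_compl, Set.ncard_singleton]

theorem card_trans (tr : Tr H V) : ∃ a, Nat.card H = (Nat.card V - 1) * p ^ a := by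
  obtain ⟨v, hv⟩ := h.exists_ne
  obtain ⟨a, ha⟩ := IsPGroup.iff_card.1 (h.syl v hv).isPGroup
  exact ⟨a, by rw [← ha, ← h.index_stab tr hv, index_mul_card]⟩

end Hc

end Her
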