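import Cfsg.Agent.Lib.GW.Gen
import Cfsg.Agent.Lib.Her.Hc
import Mathlib.LinearAlgebra.Matrix.SpecialLinearGroup

/-!
# Linear groups whose vector stabilizers are Sylow subgroups (namespace `Her`, see docs/S4841_detail.md)
-/

set_option autoImplicit false

namespace Her

open Cfsg GT FT GW Subgroup
open scoped Pointwise commutatorElement

universe u

/-- all subgroups of odd order are cyclic -/
def OC (G : Type*) [Group G] : Prop := ∀ K : Subgroup G, Odd (Nat.card K) → IsCyclic K

/-- characteristic two, faithful, elements of odd order act without fixed vectors, involutions act freely -/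
structure Wk (L V : Type*) [Group L] [AddCommGroup V] [DistribMulAction L V] : Prop where
  faith : ∀ g : L, (∀ v : V, g • v = v) → g = 1
  two : ∀ v : V, v ≠ 0 → IsPGroup 2 (MulAction.stabilizer L v)
  exp : ∀ v : V, v + v = 0
  nt : Nontrivial V
  oc : OC L
  free : ∀ t : L, Inv t → ∀ v : V, t • v = v → ∃ w : V, t • w + w = v

/-- elements of order three centralize every `2`-group they normalize -/
def NoA4 (G : Type*) [Group G] : Prop :=
  ∀ ρ : G, orderOf ρ = 3 → ∀ E : Subgroup G, IsPGroup 2 E → ρ ∈ 𝐍(E) → ρ ∈ 𝐂(E)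

/-- `Q` commutes with none of its other conjugates -/
def WC {G : Type*} [Group G] (Q : Subgroup G) : Prop :=
  ∀ g : G, MulAut.conj g • Q ≤ 𝐂(Q) → MulAut.conj g • Q = Q

/-- an elementary abelian `2`-group whose involutions normalize no other conjugate -/
structure Tq {G : Type*} [Group G] (Q : Subgroup G) : Prop where
  oc : OC G
  sq : ∀ x ∈ Q, x * x = 1
  four : 4 ≤ Nat.card Q
  fix : ∀ t ∈ Q, t ≠ 1 → ∀ g : G, t ∈ 𝐍(MulAut.conj g • Q) → g ∈ 𝐍(Q)

/-- the conclusion for `p = 2` -/
structure Cc (L V : Type*) [Group L] (q : ℕ) : Prop where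
  iso : ∃ (F : Type) (_ : Field F) (_ : Fintype F), Fintype.card F = q ∧
    Nonempty (L ≃* Matrix.SpecialLinearGroup (Fin 2) F)
  pow : ∃ a, q = 2 ^ a
  four : 4 ≤ q
  cardV : Nat.card V = q ^ 2
  cardL : Nat.card L = q * (q ^ 2 - 1)
  idx : ∀ X : Subgroup L, X ≠ ⊤ → ¬ 2 ∣ X.index → q + 1 ∣ X.index

/-- the theorem for `p = 2` and modules with fewer than `n` elements -/
def IH2 (n : ℕ) : Prop := ∀ (L V : Type u) [Group L] [Finite L] [AddCommGroup V] [Finite V] [DistribMulAction L V]
  [IsSimpleGroup L], ¬ Group.IsSolvable L → OC L → Hc 2 L V → Nat.card V < n → ∃ q, Cc L V q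

section
variable {L : Type*} (V : Type*) [Group L] [AddCommGroup V] [DistribMulAction L V]

/-- the endomorphism induced by a group element -/
def en : L →* AddMonoid.End V := DistribMulAction.toAddMonoidEnd L V

/-- `N_g = g + 1` -/
def Nn (g : L) : AddMonoid.End V := en V g + 1

/-- the vectors fixed by `g` -/
def Wv (g : L) : AddSubgroup V where
  carrier := {v | g • v = v}
  add_mem' ha hb := by rw [Set.mem_ofPred_eq, smul_add, ha, hb]
  zero_mem' := smul_zero g
  neg_mem' ha := by rw [Set.mem_ofPred_eq, smul_neg, ha]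

/-- the vectors fixed by `X` -/
def Fx (X : Subgroup L) : AddSubgroup V where
  carrier := {v | ∀ g ∈ X, g • v = v}
  add_mem' ha hb g hg := by rw [smul_add, ha g hg, hb g hg]
  zero_mem' g _ := smul_zero g
  neg_mem' ha g hg := by rw [smul_neg, ha g hg]

variable (L) {V} in
/-- the pointwise stabilizer of `W` -/
def Cn (W : AddSubgroup V) : Subgroup L where
  carrier := {g | ∀ v ∈ W, g • v = v}
  mul_mem' ha hb v hv := by rw [mul_smul, hb v hv, ha v hv]
  one_mem' v _ := one_smul L v
  inv_mem' ha v hv := inv_smul_eq_iff.2 (ha v hv).symm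

/-- `Q_t = C_L(W_t)` -/
def Qv (t : L) : Subgroup L := Cn L (Wv V t)

variable {V} {g t : L} {v : V} {X : Subgroup L} {W : AddSubgroup V}

@[simp] theorem en_apply (g : L) (v : V) : en V g v = g • v := rfl
@[simp] theorem Nn_apply (g : L) (v : V) : Nn V g v = g • v + v := rfl
theorem mem_Wv : v ∈ Wv V g ↔ g • v = v := Iff.rfl
theorem mem_Fx : v ∈ Fx V X ↔ ∀ g ∈ X, g • v = v := Iff.rfl
theorem mem_Cn : g ∈ Cn L W ↔ ∀ v ∈ W, g • v = v := Iff.rfl
theorem mem_Qv : g ∈ Qv V t ↔ ∀ v : V, t • v = v → g • v = v := Iff.rfl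
theorem mem_Qv_iff : g ∈ Qv V t ↔ Wv V t ≤ Wv V g := Iff.rfl
theorem self_mem_Qv (t : L) : t ∈ Qv V t := fun _ h => h

end

end Her
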