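import Cfsg.Agent.Lib.Her.Defs

/-!
# Groups all of whose subgroups of odd order are cyclic
-/

set_option autoImplicit false
set_option linter.unusedSectionVars false

namespace Her

open Cfsg GT FT GW Subgroup
open scoped Pointwise commutatorElement

variable {G : Type*} [Group G] [Finite G]

theorem odd_sup {A B : Subgroup G} (hA : Odd (Nat.card A)) (hB : Odd (Nat.card B)) (hn : A ≤ 𝐍(B)) :
    Odd (Nat.card ↥(A ⊔ B)) := not_two_dvd.1 ((isPiNat_compl_singleton_iff Nat.prime_two).1 (isPiNat_sup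
      ((isPiNat_compl_singleton_iff Nat.prime_two).2 (not_two_dvd.2 hA))
      ((isPiNat_compl_singleton_iff Nat.prime_two).2 (not_two_dvd.2 hB)) hn))

theorem odd_of_le {A B : Subgroup G} (hB : Odd (Nat.card B)) (h : A ≤ B) : Odd (Nat.card A) :=
  hB.of_dvd_nat (card_dvd_of_le h)

theorem cop_two {A B : Subgroup G} (hA : IsPGroup 2 A) (hB : Odd (Nat.card B)) :
    (Nat.card A).Coprime (Nat.card B) := hA.coprime_card (not_two_dvd.2 hB)

theorem disjoint_two {A B : Subgroup G} (hA : IsPGroup 2 A) (hB : Odd (Nat.card B)) : Disjoint A B :=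
  disjoint_of_coprime_natCard (cop_two hA hB)

theorem exists_odd_lift {Γ : Type*} [Group Γ] {π : G →* Γ} (hs : Function.Surjective π) (hk : IsPGroup 2 π.ker)
    {K : Subgroup Γ} (ho : Odd (Nat.card K)) :
    ∃ C : Subgroup G, Nat.card C = Nat.card K ∧ C.map π = K := by
  have e : π.ker.relIndex (K.comap π) = Nat.card K := by
    rw [relIndex_ker, map_comap_eq_self_of_surjective hs]
  obtain ⟨C, hC⟩ := exists_sdp_of_coprime (ker_le_comap π K) (le_top.trans (top_le_norm_iff.2 inferInstance))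
    (by rw [e]; exact hk.coprime_card (not_two_dvd.2 ho))
  refine ⟨C, hC.relIndex_left.symm.trans e, ?_⟩
  rw [← map_comap_eq_self_of_surjective hs K, ← hC.sup, Subgroup.map_sup, (Subgroup.map_eq_bot_iff (H := π.ker)).2 le_rfl, bot_sup_eq]

theorem OC.sub (h : OC G) (X : Subgroup G) : OC X := fun K ho =>
  haveI := h (K.map X.subtype) (by rwa [card_map_subtype])
  isCyclic_of_surjective _ (K.equivMapOfInjective _ X.subtype_injective).symm.surjective

theorem OC.of_surj (h : OC G) {Γ : Type*} [Group Γ] {π : G →* Γ} (hs : Function.Surjective π)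
    (hk : IsPGroup 2 π.ker) : OC Γ := fun K ho => by
  obtain ⟨C, h1, rfl⟩ := exists_odd_lift hs hk ho
  have := h C (h1 ▸ ho)
  exact isCyclic_of_surjective _ (π.subgroupMap_surjective C)

theorem OC.quo (h : OC G) (X N : Subgroup G) [(N.subgroupOf X).Normal] (hN : IsPGroup 2 N) : OC (Quo X N) :=
  (h.sub X).of_surj (qmk_surjective X N) (by rw [ker_qmk]; exact hN.comap_subtype)

theorem OC.self_le_cent (h : OC G) {A : Subgroup G} (hA : Odd (Nat.card A)) : A ≤ 𝐂(A) :=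
  haveI := h A hA
  comm_iff_le_cent.1 inferInstance

theorem OC.le_cent (h : OC G) {A B : Subgroup G} (hA : Odd (Nat.card A)) (hB : Odd (Nat.card B)) (hn : A ≤ 𝐍(B)) :
    A ≤ 𝐂(B) := le_sup_left.trans ((h.self_le_cent (odd_sup hA hB hn)).trans (centralizer_anti le_sup_right))

theorem OC.eq_of_card (h : OC G) {A B : Subgroup G} (hA : Odd (Nat.card A)) (hc : Nat.card A = Nat.card B)
    (hn : A ≤ 𝐍(B)) : A = B :=
  haveI := h _ (odd_sup hA (hc ▸ hA) hn)
  eq_of_card_eq_of_isCyclic (A := A ⊔ B) le_sup_left le_sup_right hc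

theorem OC.st0 (h : OC G) [Group.IsSolvable G] (h2 : Op 2 (⊤ : Subgroup G) = ⊥) :
    Odd (Nat.card (fittingOf (⊤ : Subgroup G))) ∧ (∀ K : Subgroup G, Odd (Nat.card K) → K ≤ fittingOf ⊤) ∧
      ⁅(⊤ : Subgroup G), (⊤ : Subgroup G)⁆ ≤ fittingOf ⊤ := by
  have ho : Odd (Nat.card (fittingOf (⊤ : Subgroup G))) :=
    not_two_dvd.1 fun e => Op_ne_bot_nil e ((Op_fittingOf 2 ⊤).trans h2)
  have := h _ ho
  exact ⟨ho, fun K hK => (le_inf le_top (h.le_cent hK ho (le_top.trans (le_norm_fittingOf ⊤)))).trans cent_fittingOf_le,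
    (le_inf le_top (commutator_le_centralizer_of_isCyclic (le_norm_fittingOf ⊤))).trans cent_fittingOf_le⟩

/-- (St) -/
theorem OC.st (h : OC G) {X : Subgroup G} (hs : Group.IsSolvable X) : ∃ F ≤ X, Odd (Nat.card F) ∧
    (∀ K ≤ X, Odd (Nat.card K) → K ≤ F ⊔ Op 2 X) ∧ ⁅X, X⁆ ≤ F ⊔ Op 2 X := by
  obtain ⟨h1, h2, h3⟩ := OC.st0 (h.quo X _ (isPGroup_Op 2 X)) (piCoreOf_quo_piCoreOf _ X)
  obtain ⟨C, c1, c2⟩ := exists_odd_lift (qmk_surjective X (Op 2 X))
    (by rw [ker_qmk]; exact (isPGroup_Op 2 X).comap_subtype) h1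
  have e : qim X (Op 2 X) (C.map X.subtype) = fittingOf ⊤ := by rw [qim, sgOf_map_subtype, c2]
  have hC := map_subtype_le C
  refine ⟨C.map X.subtype, hC, by rwa [card_map_subtype, c1], fun K hK ho => ?_, ?_⟩
  · rw [← qim_le_qim_iff (piCoreOf_le _ _) hK hC, e]
    exact h2 _ (ho.of_dvd_nat (card_qim_dvd hK))
  · rw [← qim_le_qim_iff (piCoreOf_le _ _) (der_le X) hC, e, qim_der]
    exact h3

theorem card_qim_odd {X K : Subgroup G} (hK : K ≤ X) (ho : Odd (Nat.card K)) :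
    Nat.card (qim X (Op 2 X) K) = Nat.card K :=
  (Nat.card_congr (qimEquiv hK (disjoint_two (isPGroup_Op 2 X) ho)).toEquiv).symm

theorem OC.norm_sup (h : OC G) {X K : Subgroup G} (hs : Group.IsSolvable X) (hK : K ≤ X) (ho : Odd (Nat.card K)) :
    X ≤ 𝐍((K ⊔ Op 2 X : Subgroup G)) := by
  have hq := h.quo X _ (isPGroup_Op 2 X)
  obtain ⟨h1, h2, -⟩ := OC.st0 hq (piCoreOf_quo_piCoreOf _ X)
  have := hq _ h1
  rw [← qim_le_norm_iff (piCoreOf_le _ _) le_rfl hK]
  exact (le_top.trans (le_norm_fittingOf ⊤)).trans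
    (normalizer_le_normalizer_of_le_isCyclic (h2 _ (ho.of_dvd_nat (card_qim_dvd hK))))

theorem OC.le_sup (h : OC G) {X K K' : Subgroup G} (hs : Group.IsSolvable X) (hK : K ≤ X) (hK' : K' ≤ X)
    (ho : Odd (Nat.card K')) (hc : Nat.card K ∣ Nat.card K') : K ≤ K' ⊔ Op 2 X := by
  have hq := h.quo X _ (isPGroup_Op 2 X)
  obtain ⟨h1, h2, -⟩ := OC.st0 hq (piCoreOf_quo_piCoreOf _ X)
  have := hq _ h1
  have ho' := ho.of_dvd_nat hc
  rw [← qim_le_qim_iff (piCoreOf_le _ _) hK hK']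
  exact le_of_card_dvd_of_isCyclic (h2 _ (ho'.of_dvd_nat (card_qim_dvd hK))) (h2 _ (ho.of_dvd_nat (card_qim_dvd hK')))
    (by rwa [card_qim_odd hK ho', card_qim_odd hK' ho])

theorem OC.sup_eq (h : OC G) {X K K' : Subgroup G} (hs : Group.IsSolvable X) (hK : K ≤ X) (hK' : K' ≤ X)
    (ho : Odd (Nat.card K)) (hc : Nat.card K = Nat.card K') : K ⊔ Op 2 X = K' ⊔ Op 2 X :=
  le_antisymm (sup_le (h.le_sup hs hK hK' (hc ▸ ho) hc.dvd) le_sup_right)
    (sup_le (h.le_sup hs hK' hK ho hc.symm.dvd) le_sup_right)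

theorem exists_mul_eq_of_coprime_relIndex {A B K : Subgroup G} (h : (A.relIndex K).Coprime (B.relIndex K)) {k : G}
    (hk : k ∈ K) : ∃ a ∈ A, ∃ b ∈ B, a * b = k := by
  obtain ⟨a, ha, b, hb, e⟩ := exists_mul_eq_of_coprime_index (H := A.subgroupOf K) (K := B.subgroupOf K) h ⟨k, hk⟩
  exact ⟨a, ha, b, hb, congrArg Subtype.val e⟩

theorem le_cent_of_cyclic {r : ℕ} [Fact r.Prime] {A R : Subgroup G} [IsCyclic R] (hR : IsPGroup r R)
    (c : CoprimeAct A R) (h : R ⊓ 𝐂(A) ≠ ⊥) : R ≤ 𝐂(A) := by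
  have d := c.disjoint_commutator_centralizer
  rcases le_total_of_isCyclic hR c.commutator_le (inf_le_left : R ⊓ 𝐂(A) ≤ R) with e | e
  · exact le_cent_of_commutator_le (d.eq_bot_of_le (e.trans inf_le_right)).le
  · exact absurd (le_bot_iff.1 ((le_inf e inf_le_right).trans d.le_bot)) h

theorem mem_zpowers_three {c x : G} (h : orderOf c = 3) (hx : x ∈ zpowers c) : x = 1 ∨ x = c ∨ x = c⁻¹ := by
  classical
  obtain ⟨i, hi, rfl⟩ := Finset.mem_image.1 (mem_zpowers_iff_mem_range_orderOf.1 hx)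
  rw [h, Finset.mem_range] at hi
  interval_cases i
  · exact .inl (pow_zero c)
  · exact .inr (.inl (pow_one c))
  · exact .inr (.inr (eq_inv_of_mul_eq_one_left (by rw [← pow_succ, show 2 + 1 = orderOf c from h.symm, pow_orderOf_eq_one])))

/-- Burnside: a cyclic Sylow subgroup, one of whose non-trivial elements is centralized by the normalizer -/
theorem OC.sdp (h : OC G) {r : ℕ} [Fact r.Prime] (hr : r ≠ 2) {J R : Subgroup G} (hR : IsSylowIn r R J) {y : G}
    (hy : y ∈ R) (h1 : y ≠ 1) (hc : J ⊓ 𝐍(R) ≤ 𝐂[y]) : Sdp (Op' r J) R J := by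
  have ho := not_two_dvd.1 (not_dvd_card_of_ne hR.isPGroup hr.symm)
  have := h R ho
  refine sdp_Op'_of_hall (hall_Op'_iff.2 (hR.hasNormalPComplement_of_le_centralizer
    (le_of_forall_isPElt_mem fun q _ x hx hq => ?_))) hR
  by_cases e : q = r
  · subst e
    exact h.self_le_cent ho (hR.mem_of_mem_normalizer hq hx.1 hx.2)
  · refine zpowers_le.1 (le_cent_comm.1 (le_cent_of_cyclic hR.isPGroup (coprimeAct_of_isPGroup_left
      (zpowers_le.2 hx.2) hq.isPGroup_zpowers (not_dvd_card_of_ne hR.isPGroup e)) fun e' => h1 (mem_bot.1 (e' ▸ ⟨hy, ?_⟩))))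
    rw [centralizer_zpowers]
    exact mem_cent1_comm.1 (hc hx)

/-- Lemma C -/
theorem OC.lemC (h : OC G) {K : Subgroup G} {y : G} (ho : Odd (orderOf y)) (hn : y ∈ 𝐍(K))
    (hc : (Nat.card K).Coprime (orderOf y)) : ⁅K, zpowers y⁆ ≤ Op 2 K := by
  have c := coprimeAct_zpowers hn hc
  have hy : Odd (Nat.card (zpowers y)) := by rwa [Nat.card_zpowers]
  obtain ⟨D, hD, nD⟩ := c.exists_isSylowIn 2
  have h1 : ¬ 2 ∣ D.relIndex K := hD.not_dvd
  have h2 : IsPiNat {2} ((K ⊓ 𝐂(zpowers y)).relIndex K) := fun r hr hd => by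
    by_contra e
    have := Fact.mk hr
    obtain ⟨R, hR, nR⟩ := c.exists_isSylowIn r
    exact hR.not_dvd (hd.trans (relIndex_dvd_of_le_left _ (le_inf hR.le (le_cent_comm.1 (h.le_cent hy
      (not_two_dvd.1 (not_dvd_card_of_ne hR.isPGroup (Ne.symm e))) nR)))))
  have h3 : ⁅K, zpowers y⁆ ≤ D := commutator_le.2 fun k hk x hx => by
    obtain ⟨d, hd, c, hc, rfl⟩ := exists_mul_eq_of_coprime_relIndex
      (h2.coprime ((isPiNat_compl_singleton_iff Nat.prime_two).2 h1)).symm hk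
    have e : ⁅d * c, x⁆ = ⁅d, x⁆ := by
      simp only [commutatorElement_def, mul_inv_rev]
      rw [mul_assoc d c x, ← mem_centralizer_iff.1 hc.2 x hx]; group
    rw [e]
    exact commutator_le_left_of_norm nD (commutator_mem_commutator hd hx)
  exact le_Op c.commutator_le (le_norm_commutator_left _ _) (hD.isPGroup.to_le h3)

/-- N3 : an element of order three that is not inverted in `J` -/
theorem OC.n3 (h : OC G) {J : Subgroup G} {ρ : G} (hρ : orderOf ρ = 3) (hJ : ρ ∈ J)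
    (hi : ∀ g ∈ J, g * ρ * g⁻¹ ≠ ρ⁻¹) : ⁅J, zpowers ρ⁆ ≤ Op 2 J := by
  have : Fact (Nat.Prime 3) := ⟨Nat.prime_three⟩
  have h0 : ρ ≠ 1 := by rintro rfl; simp at hρ
  obtain ⟨R, hR, h1⟩ := exists_isSylowIn_ge (IsPGroup.of_card (p := 3) (n := 1) (G := zpowers ρ)
    (by rw [Nat.card_zpowers, hρ, pow_one])) (zpowers_le.2 hJ)
  have ho := not_two_dvd.1 (not_dvd_card_of_ne hR.isPGroup (by decide : 2 ≠ 3))
  have := h R ho
  have s := h.sdp (by decide) hR (h1 (mem_zpowers ρ)) h0 fun x hx => by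
    rcases mem_zpowers_three hρ (conj_mem_of_mem_normalizer (normalizer_le_normalizer_of_le_isCyclic h1 hx.2)
      (mem_zpowers ρ)) with e | e | e
    · exact absurd (conj_eq_one_iff.1 e) h0
    · exact mem_cent1.2 (mul_inv_eq_iff_eq_mul.1 e)
    · exact absurd e (hi x hx.1)
  have n := le_norm_piCoreOf {2} J
  conv_lhs => rw [← s.sup]
  refine commutator_sup_left_le ((h.lemC (hρ ▸ by decide) (s.le_norm hJ) ?_).trans
    (piCoreOf_le_of_normal _ s.left_le s.le_norm)) ((commutator_eq_bot_of_le_cent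
      ((h.self_le_cent ho).trans (centralizer_anti h1))).le.trans bot_le) (s.left_le.trans n) (hR.le.trans n)
  rw [hρ]
  exact ((Nat.Prime.coprime_iff_not_dvd Nat.prime_three).2 (not_dvd_card_Op' 3 J)).symm

end Her
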